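import Mathlib

/-!
# Coprime automorphisms of an abelian group of small rank

A group of automorphisms of order prime to `p` of an abelian `p`-group with at most `p ^ 2` elements
killed by `p` has a regular orbit, unless the group is elementary of order `p ^ 2`.
-/

set_option autoImplicit false
set_option linter.unusedSectionVars false
set_option linter.style.longLine false

namespace Cfsg.Agent.BC85.RankBound

variable {P : Type*} [CommGroup P] [Finite P] {p : ℕ}

/-- The elements killed by `p ^ j`. -/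
def omegaSub (P : Type*) [CommGroup P] (p j : ℕ) : Subgroup P := (powMonoidHom (p ^ j) : P →* P).ker

theorem mem_omegaSub {j : ℕ} {x : P} : x ∈ omegaSub P p j ↔ x ^ p ^ j = 1 := Iff.rfl

variable (hP : IsPGroup p P)
include hP

theorem coprime_pow_eq_one [Fact p.Prime] {x : P} {m : ℕ} (hm : ¬ p ∣ m) (hx : x ^ m = 1) : x = 1 := by
  obtain ⟨j, hj⟩ := IsPGroup.iff_orderOf.mp hP x
  have h := orderOf_dvd_of_pow_eq_one hx
  rw [hj] at h
  rcases Nat.eq_zero_or_pos j with rfl | hj0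
  · exact orderOf_eq_one_iff.mp (by rw [hj, pow_zero])
  · exact absurd ((dvd_pow_self p hj0.ne').trans h) hm

/-- An automorphism of order prime to `p` that fixes `x⁻¹ * α x` fixes `x`. -/
theorem fix_of_fix_quot [Fact p.Prime] {α : MulAut P} {m : ℕ} (hm : ¬ p ∣ m) (hα : α ^ m = 1) {x : P}
    (h : α (x⁻¹ * α x) = x⁻¹ * α x) : α x = x := by
  set z := x⁻¹ * α x with hz
  have hit : ∀ j : ℕ, (α ^ j) x = x * z ^ j := by
    intro j
    induction j with
    | zero => simp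
    | succ j ih =>
      rw [pow_succ', MulAut.mul_apply, ih, map_mul, map_pow, h, pow_succ', ← mul_assoc, hz,
        mul_inv_cancel_left]
  have := hit m
  rw [hα, MulAut.one_apply, eq_comm, mul_eq_left] at this
  have hz1 := coprime_pow_eq_one hP hm this
  rw [hz, inv_mul_eq_one] at hz1
  exact hz1.symm

/-- An automorphism of order prime to `p` trivial on the elements killed by `p` is trivial. -/
theorem eq_one_of_fix_omega [Fact p.Prime] {α : MulAut P} {m : ℕ} (hm : ¬ p ∣ m) (hα : α ^ m = 1)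
    (h : ∀ x ∈ omegaSub P p 1, α x = x) : α = 1 := by
  have key : ∀ j, ∀ x ∈ omegaSub P p j, α x = x := by
    intro j
    induction j with
    | zero =>
      intro x hx
      rw [mem_omegaSub, pow_zero, pow_one] at hx
      rw [hx, map_one]
    | succ j ih =>
      intro x hx
      rw [mem_omegaSub, pow_succ', pow_mul] at hx
      refine fix_of_fix_quot hP hm hα (h _ ?_)
      rw [mem_omegaSub, pow_one, mul_pow, inv_pow, ← map_pow, ih _ hx, inv_mul_cancel]
  refine MulEquiv.ext fun x => ?_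
  obtain ⟨j, hj⟩ := hP x
  exact key j x hj

theorem natCard_omegaSub_le [Fact p.Prime] : ∀ j, Nat.card (omegaSub P p j) ≤ Nat.card (omegaSub P p 1) ^ j := by
  intro j
  induction j with
  | zero =>
    rw [pow_zero]
    refine (Nat.card_eq_one_iff_unique.mpr ⟨⟨fun a b => Subtype.ext ?_⟩, ⟨(⟨1, one_mem _⟩ : omegaSub P p 0)⟩⟩).le
    have ha := a.2; have hb := b.2
    rw [mem_omegaSub, pow_zero, pow_one] at ha hb
    rw [ha, hb]
  | succ j ih =>
    let f : omegaSub P p (j + 1) →* omegaSub P p j :=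
      ((powMonoidHom p : P →* P).comp (omegaSub P p (j + 1)).subtype).codRestrict _ fun x => by
        rw [mem_omegaSub]
        show ((x : P) ^ p) ^ p ^ j = 1
        rw [← pow_mul, ← pow_succ']
        exact x.2
    have h1 := f.ker.card_mul_index
    rw [Subgroup.index_ker] at h1
    rw [← h1, pow_succ, mul_comm]
    refine Nat.mul_le_mul ((Subgroup.card_le_card_group f.range).trans ih) ?_
    refine Nat.card_le_card_of_injective (fun x => (⟨((x : omegaSub P p (j + 1)) : P), ?_⟩ : omegaSub P p 1)) ?_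
    · have := congrArg Subtype.val (MonoidHom.mem_ker.mp x.2)
      rw [mem_omegaSub, pow_one]
      exact this
    · intro a b hab
      exact Subtype.ext (Subtype.ext (congrArg Subtype.val hab :))

/-- The order is bounded by a power of the exponent. -/
theorem exists_orderOf_bound [Fact p.Prime] {r : ℕ} (hr : Nat.card (omegaSub P p 1) ≤ p ^ r) :
    ∃ (u : P) (s : ℕ), orderOf u = p ^ s ∧ (∀ x : P, x ^ p ^ s = 1) ∧ Nat.card P ≤ p ^ (s * r) := by
  have := Fintype.ofFinite P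
  obtain ⟨u, -, hu⟩ := Finset.exists_max_image Finset.univ (fun x : P => orderOf x) Finset.univ_nonempty
  obtain ⟨s, hs⟩ := IsPGroup.iff_orderOf.mp hP u
  have hall : ∀ x : P, x ^ p ^ s = 1 := by
    intro x
    obtain ⟨t, ht⟩ := IsPGroup.iff_orderOf.mp hP x
    refine orderOf_dvd_iff_pow_eq_one.mp ?_
    rw [ht]
    refine pow_dvd_pow p ((Nat.pow_le_pow_iff_right (Fact.out : p.Prime).one_lt).mp ?_)
    rw [← hs, ← ht]
    exact hu x (Finset.mem_univ _)
  refine ⟨u, s, hs, hall, ?_⟩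
  have htop : omegaSub P p s = ⊤ := eq_top_iff.mpr fun x _ => hall x
  have h := natCard_omegaSub_le (P := P) hP s
  rw [htop, Subgroup.card_top] at h
  refine h.trans ?_
  rw [mul_comm s, pow_mul]
  exact Nat.pow_le_pow_left hr s

/-- An abelian `p`-group with at most `p` elements killed by `p` is cyclic. -/
theorem exists_orderOf_eq_card [Fact p.Prime] (hr : Nat.card (omegaSub P p 1) ≤ p) :
    ∃ (u : P) (s : ℕ), orderOf u = p ^ s ∧ Nat.card P = p ^ s := by
  obtain ⟨u, s, hs, -, hle⟩ := exists_orderOf_bound hP (r := 1) (by rwa [pow_one])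
  refine ⟨u, s, hs, le_antisymm (by rwa [mul_one] at hle) ?_⟩
  rw [← hs]
  exact orderOf_le_card

omit hP in
theorem p_le_natCard_omegaSub [Fact p.Prime] (hP : IsPGroup p P) (h : Nontrivial P) :
    p ≤ Nat.card (omegaSub P p 1) := by
  obtain ⟨k, hk, hcard⟩ := hP.nontrivial_iff_card.mp h
  obtain ⟨x, hx⟩ := exists_prime_orderOf_dvd_card' (G := P) p (hcard ▸ dvd_pow_self p (by omega))
  have hxm : x ∈ omegaSub P p 1 := by rw [mem_omegaSub, pow_one, ← hx, pow_orderOf_eq_one]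
  calc p = orderOf x := hx.symm
    _ = Nat.card (Subgroup.zpowers x) := (Nat.card_zpowers x).symm
    _ ≤ _ := Subgroup.card_le_of_le (Subgroup.zpowers_le.mpr hxm)

omit hP in
/-- The product of the elements killed by `p` in two subgroups with trivial intersection. -/
theorem natCard_omega_mul_le {C K : Subgroup P} (hCK : C ⊓ K = ⊥) :
    Nat.card (omegaSub C p 1) * Nat.card (omegaSub K p 1) ≤ Nat.card (omegaSub P p 1) := by
  rw [← Nat.card_prod]
  refine Nat.card_le_card_of_injective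
    (fun z => (⟨((z.1 : C) : P) * ((z.2 : K) : P), ?_⟩ : omegaSub P p 1)) ?_
  · rw [mem_omegaSub, mul_pow]
    have h1 := congrArg Subtype.val (mem_omegaSub.mp z.1.2)
    have h2 := congrArg Subtype.val (mem_omegaSub.mp z.2.2)
    push_cast at h1 h2
    rw [h1, h2, mul_one]
  · rintro ⟨⟨⟨a, ha⟩, _⟩, ⟨⟨b, hb⟩, _⟩⟩ ⟨⟨⟨a', ha'⟩, _⟩, ⟨⟨b', hb'⟩, _⟩⟩ h
    have h' : a * b = a' * b' := congrArg Subtype.val h
    have he : a'⁻¹ * a = b' * b⁻¹ := by
      rw [inv_mul_eq_iff_eq_mul, ← mul_assoc, eq_mul_inv_iff_mul_eq, h']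
    have hmem : a'⁻¹ * a ∈ C ⊓ K := ⟨C.mul_mem (C.inv_mem ha') ha, by rw [he]; exact K.mul_mem hb' (K.inv_mem hb)⟩
    rw [hCK, Subgroup.mem_bot] at hmem
    have h1 : a' = a := inv_mul_eq_one.mp hmem
    rw [hmem, eq_comm, mul_inv_eq_one] at he
    subst h1 he
    rfl

/-- Coprime decomposition. -/
theorem exists_decomp [Fact p.Prime] (A : Subgroup (MulAut P)) (hA : ¬ p ∣ Nat.card A) :
    ∃ C K : Subgroup P, C ⊓ K = ⊥ ∧ Nat.card C * Nat.card K = Nat.card P ∧
      (∀ x, x ∈ C ↔ ∀ α ∈ A, α x = x) ∧ (∀ α ∈ A, ∀ x ∈ K, α x ∈ K) ∧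
      (∀ x : P, ∃ c ∈ C, ∃ k ∈ K, c * k = x) := by
  classical
  have : Fintype A := Fintype.ofFinite A
  let π : P →* P :=
    { toFun := fun x => ∏ α : A, (α : MulAut P) x
      map_one' := by simp
      map_mul' := fun x y => by simp [Finset.prod_mul_distrib] }
  let C : Subgroup P :=
    { carrier := {x | ∀ α ∈ A, α x = x}
      one_mem' := fun α _ => map_one α
      mul_mem' := fun hx hy α hα => by rw [map_mul, hx α hα, hy α hα]
      inv_mem' := fun hx α hα => by rw [map_inv, hx α hα] }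
  have hπC : ∀ x, π x ∈ C := by
    intro x α hα
    show α (∏ β : A, (β : MulAut P) x) = _
    rw [map_prod]
    exact Fintype.prod_equiv (Equiv.mulLeft ⟨α, hα⟩) _ _ fun β => rfl
  have hπfix : ∀ x ∈ C, π x = x ^ Nat.card A := by
    intro x hx
    show ∏ β : A, (β : MulAut P) x = _
    rw [Finset.prod_congr rfl fun (β : A) _ => hx _ β.2, Finset.prod_const, Finset.card_univ,
      Nat.card_eq_fintype_card]
  have hbot : C ⊓ π.ker = ⊥ := by
    rw [Subgroup.eq_bot_iff_forall]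
    rintro x ⟨hx, hk⟩
    exact coprime_pow_eq_one hP hA ((hπfix x hx).symm.trans hk)
  have hdec : ∀ x : P, ∃ c ∈ C, ∃ k ∈ π.ker, c * k = x := by
    intro x
    have hcop : (Nat.card P).Coprime (Nat.card A) := by
      obtain ⟨k, hk⟩ := IsPGroup.iff_card.mp hP
      rw [hk]
      exact (((Fact.out : p.Prime).coprime_iff_not_dvd).mpr hA).pow_left k
    set y := (powCoprime hcop).symm (π x) with hy
    have hy' : y ^ Nat.card A = π x := (powCoprime hcop).apply_symm_apply (π x)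
    have hyC : y ∈ C := by
      intro α hα
      apply (powCoprime hcop).injective
      show (α y) ^ Nat.card A = y ^ Nat.card A
      rw [← map_pow, hy', hπC x α hα]
    refine ⟨y, hyC, y⁻¹ * x, ?_, mul_inv_cancel_left y x⟩
    rw [MonoidHom.mem_ker, map_mul, map_inv, hπfix y hyC, hy', inv_mul_cancel]
  refine ⟨C, π.ker, hbot, ?_, fun x => Iff.rfl, fun α hα x hx => ?_, hdec⟩
  · rw [← Nat.card_prod]
    refine Nat.card_eq_of_bijective (fun z => (z.1 : P) * z.2) ⟨?_, fun x => ?_⟩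
    · rintro ⟨a, b⟩ ⟨a', b'⟩ h
      have h' : (a : P) * b = a' * b' := h
      have he : (a' : P)⁻¹ * a = b' * (b : P)⁻¹ := by
        rw [inv_mul_eq_iff_eq_mul, ← mul_assoc, eq_mul_inv_iff_mul_eq, h']
      have hmem : (a' : P)⁻¹ * a ∈ C ⊓ π.ker :=
        ⟨C.mul_mem (C.inv_mem a'.2) a.2, by rw [he]; exact π.ker.mul_mem b'.2 (π.ker.inv_mem b.2)⟩
      rw [hbot, Subgroup.mem_bot] at hmem
      rw [hmem, eq_comm, mul_inv_eq_one] at he
      rw [Subtype.ext (inv_mul_eq_one.mp hmem).symm, Subtype.ext he]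
    · obtain ⟨c, hc, k, hk, rfl⟩ := hdec x
      exact ⟨(⟨c, hc⟩, ⟨k, hk⟩), rfl⟩
  · rw [MonoidHom.mem_ker] at hx ⊢
    show ∏ β : A, (β : MulAut P) (α x) = 1
    rw [← hx]
    exact Fintype.prod_equiv (Equiv.mulRight ⟨α, hα⟩) _ _ fun β => rfl

omit hP in
theorem natCard_omegaSub_one_le_pow_rank (P : Type*) [CommGroup P] [Finite P] (p : ℕ) [Fact p.Prime] :
    Nat.card (omegaSub P p 1) ≤ p ^ Group.rank P := by
  set R := (powMonoidHom p : P →* P).range with hR
  have h1 : Nat.card (omegaSub P p 1) * Nat.card R = Nat.card P := by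
    have := (powMonoidHom p : P →* P).ker.card_mul_index
    rw [Subgroup.index_ker] at this
    rwa [omegaSub, pow_one]
  have h2 := R.index_mul_card
  have h3 : Nat.card (omegaSub P p 1) = R.index :=
    Nat.eq_of_mul_eq_mul_right Nat.card_pos (h1.trans h2.symm)
  have hexp : ∀ g : P ⧸ R, g ^ p = 1 := by
    intro g
    induction g using QuotientGroup.induction_on with
    | _ x =>
      rw [← QuotientGroup.mk_pow, QuotientGroup.eq_one_iff]
      exact ⟨x, rfl⟩
  have h4 : Nat.card (P ⧸ R) ∣ p ^ Group.rank (P ⧸ R) := card_dvd_exponent_pow_rank' _ hexp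
  rw [h3, Subgroup.index_eq_card]
  refine (Nat.le_of_dvd (pow_pos (Fact.out : p.Prime).pos _) h4).trans ?_
  exact Nat.pow_le_pow_right (Fact.out : p.Prime).pos
    (Group.rank_le_of_surjective (QuotientGroup.mk' R) (QuotientGroup.mk'_surjective R))

omit hP in
/-- The elements killed by `p` of a cyclic subgroup. -/
theorem mem_zpowers_top_pow [Fact p.Prime] {c : P} {s : ℕ} (hc : orderOf c = p ^ (s + 1)) {x : P}
    (hx : x ∈ Subgroup.zpowers c) (hxp : x ^ p = 1) : x ∈ Subgroup.zpowers (c ^ p ^ s) := by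
  obtain ⟨n, rfl⟩ := Subgroup.mem_zpowers_iff.mp hx
  rw [← zpow_natCast (c ^ n) p, ← zpow_mul] at hxp
  have h := orderOf_dvd_iff_zpow_eq_one.mpr hxp
  rw [hc, Nat.cast_pow, pow_succ] at h
  obtain ⟨q, hq⟩ := Int.dvd_of_mul_dvd_mul_right (by exact_mod_cast (Fact.out : p.Prime).ne_zero) h
  refine Subgroup.mem_zpowers_iff.mpr ⟨q, ?_⟩
  rw [hq, zpow_mul]
  norm_cast

omit hP in
theorem top_pow_ne_one [Fact p.Prime] {c : P} {s : ℕ} (hc : orderOf c = p ^ (s + 1)) :
    c ^ p ^ s ≠ 1 ∧ (c ^ p ^ s) ^ p = 1 := by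
  refine ⟨fun h => ?_, ?_⟩
  · have := orderOf_dvd_of_pow_eq_one h
    rw [hc, Nat.pow_dvd_pow_iff_le_right (Fact.out : p.Prime).one_lt] at this
    omega
  · rw [← pow_mul, ← pow_succ, ← hc, pow_orderOf_eq_one]

omit hP in
theorem fix_zpowers {α : MulAut P} {z x : P} (hz : α z = z) (hx : x ∈ Subgroup.zpowers z) :
    α x = x := by
  obtain ⟨n, rfl⟩ := Subgroup.mem_zpowers_iff.mp hx
  rw [map_zpow, hz]

/-- **Regular orbit.** -/
theorem exists_regular [Fact p.Prime] (A : Subgroup (MulAut P)) (hA : ¬ p ∣ Nat.card A)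
    (h2 : Nat.card (omegaSub P p 1) ≤ p ^ 2)
    (hel : ¬ (Nat.card P = p ^ 2 ∧ ∀ x : P, x ^ p = 1)) :
    ∃ u : P, ∀ α ∈ A, α u = u → α = 1 := by
  have hord : ∀ α ∈ A, α ^ Nat.card A = 1 := fun α hα =>
    orderOf_dvd_iff_pow_eq_one.mp (A.orderOf_dvd_natCard hα)
  by_cases hfpf : ∀ α ∈ A, ∀ x : P, α x = x → x ≠ 1 → α = 1
  · rcases subsingleton_or_nontrivial P with h | h
    · exact ⟨1, fun α _ _ => MulEquiv.ext fun x => Subsingleton.elim _ _⟩
    · obtain ⟨u, hu⟩ := exists_ne (1 : P)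
      exact ⟨u, fun α hα hf => hfpf α hα u hf hu⟩
  push Not at hfpf
  obtain ⟨α₁, hα₁, x₁, hx₁, hx1ne, hα1ne⟩ := hfpf
  have hZ : Subgroup.zpowers α₁ ≤ A := Subgroup.zpowers_le.mpr hα₁
  obtain ⟨C, K, hCK, hcard, hC, hK, hdec⟩ := exists_decomp hP (Subgroup.zpowers α₁)
    fun h => hA (h.trans (Subgroup.card_dvd_of_le hZ))
  have hC' : ∀ x, x ∈ C ↔ α₁ x = x := fun x =>
    ⟨fun h => (hC x).mp h α₁ (Subgroup.mem_zpowers α₁), fun h => (hC x).mpr fun α hα => by
      obtain ⟨n, rfl⟩ := Subgroup.mem_zpowers_iff.mp hα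
      have hstab : α₁ ∈ MulAction.stabilizer (MulAut P) x := h
      exact zpow_mem hstab n⟩
  have hK' : ∀ x ∈ K, α₁ x ∈ K := hK α₁ (Subgroup.mem_zpowers α₁)
  have huniq : ∀ a ∈ C, ∀ b ∈ K, ∀ a' ∈ C, ∀ b' ∈ K, a * b = a' * b' → a = a' ∧ b = b' := by
    intro a ha b hb a' ha' b' hb' h
    have he : a'⁻¹ * a = b' * b⁻¹ := by
      rw [inv_mul_eq_iff_eq_mul, ← mul_assoc, eq_mul_inv_iff_mul_eq, h]
    have hmem : a'⁻¹ * a ∈ C ⊓ K := ⟨C.mul_mem (C.inv_mem ha') ha, by rw [he]; exact K.mul_mem hb' (K.inv_mem hb)⟩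
    rw [hCK, Subgroup.mem_bot] at hmem
    rw [hmem, eq_comm, mul_inv_eq_one] at he
    exact ⟨(inv_mul_eq_one.mp hmem).symm, he.symm⟩
  have hCnt : Nontrivial C := C.nontrivial_iff_ne_bot.mpr fun h =>
    hx1ne (by simpa [h] using (hC' x₁).mpr hx₁)
  have hKnt : Nontrivial K := K.nontrivial_iff_ne_bot.mpr fun h => hα1ne (MulEquiv.ext fun x => by
    obtain ⟨a, ha, b, hb, rfl⟩ := hdec x
    rw [h, Subgroup.mem_bot] at hb
    rw [hb, mul_one, (hC' a).mp ha, MulAut.one_apply])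
  have hp0 : 0 < p := (Fact.out : p.Prime).pos
  have hprod : Nat.card (omegaSub C p 1) * Nat.card (omegaSub K p 1) ≤ p * p :=
    (natCard_omega_mul_le hCK).trans (h2.trans (by rw [pow_two]))
  have hCp : Nat.card (omegaSub C p 1) ≤ p := Nat.le_of_mul_le_mul_right
    ((Nat.mul_le_mul_left _ (p_le_natCard_omegaSub (hP.to_subgroup K) hKnt)).trans hprod) hp0
  have hKp : Nat.card (omegaSub K p 1) ≤ p := Nat.le_of_mul_le_mul_left
    ((Nat.mul_le_mul_right _ (p_le_natCard_omegaSub (hP.to_subgroup C) hCnt)).trans hprod) hp0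
  obtain ⟨⟨c, hcC⟩, s', hs', hsC⟩ := exists_orderOf_eq_card (hP.to_subgroup C) hCp
  obtain ⟨⟨k, hkK⟩, t', ht', htK⟩ := exists_orderOf_eq_card (hP.to_subgroup K) hKp
  rw [Subgroup.orderOf_mk] at hs' ht'
  obtain ⟨s, rfl⟩ : ∃ s, s' = s + 1 := Nat.exists_eq_succ_of_ne_zero fun h => by
    rw [h, pow_zero] at hsC
    exact absurd hsC (Finite.one_lt_card (α := C)).ne'
  obtain ⟨t, rfl⟩ : ∃ t, t' = t + 1 := Nat.exists_eq_succ_of_ne_zero fun h => by
    rw [h, pow_zero] at htK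
    exact absurd htK (Finite.one_lt_card (α := K)).ne'
  have hCz : C = Subgroup.zpowers c := (Subgroup.eq_of_le_of_card_ge
    (Subgroup.zpowers_le.mpr hcC) (by rw [Nat.card_zpowers, hs', hsC])).symm
  have hKz : K = Subgroup.zpowers k := (Subgroup.eq_of_le_of_card_ge
    (Subgroup.zpowers_le.mpr hkK) (by rw [Nat.card_zpowers, ht', htK])).symm
  obtain ⟨hzC1, hzCp⟩ := top_pow_ne_one hs'
  obtain ⟨hzK1, hzKp⟩ := top_pow_ne_one ht'
  set zC := c ^ p ^ s with hzC
  set zK := k ^ p ^ t with hzK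
  have hzCmem : zC ∈ C := C.pow_mem hcC _
  have hzKmem : zK ∈ K := K.pow_mem hkK _
  have homega : ∀ x : P, x ^ p = 1 → ∃ a ∈ Subgroup.zpowers zC, ∃ b ∈ Subgroup.zpowers zK, a * b = x := by
    intro x hx
    obtain ⟨a, ha, b, hb, rfl⟩ := hdec x
    rw [mul_pow] at hx
    obtain ⟨ha1, hb1⟩ := huniq _ (C.pow_mem ha p) _ (K.pow_mem hb p) 1 (one_mem _) 1 (one_mem _)
      (by rw [hx, one_mul])
    exact ⟨a, mem_zpowers_top_pow hs' (hCz ▸ ha) ha1, b, mem_zpowers_top_pow ht' (hKz ▸ hb) hb1, rfl⟩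
  have hfix2 : ∀ γ ∈ A, γ zC = zC → γ zK = zK → γ = 1 := by
    intro γ hγ hc' hk'
    refine eq_one_of_fix_omega hP hA (hord γ hγ) fun x hx => ?_
    rw [mem_omegaSub, pow_one] at hx
    obtain ⟨a, ha, b, hb, rfl⟩ := homega x hx
    rw [map_mul, fix_zpowers hc' ha, fix_zpowers hk' hb]
  have hα₁zC : α₁ zC = zC := (hC' _).mp hzCmem
  have hα₁zK : α₁ zK ∈ Subgroup.zpowers zK :=
    mem_zpowers_top_pow ht' (hKz ▸ hK' _ hzKmem) (by rw [← map_pow, hzKp, map_one])
  -- the commutation of a stabilizer with `α₁`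
  have hcomm : ∀ α ∈ A, ∀ z w : P, (∀ x : P, x ^ p = 1 → ∃ a ∈ Subgroup.zpowers z, ∃ b ∈ Subgroup.zpowers w, a * b = x) →
      z ^ p = 1 → w ^ p = 1 → z ≠ 1 → α₁ z ∈ Subgroup.zpowers z → α₁ w ∈ Subgroup.zpowers w → α z = z →
      α * α₁ = α₁ * α := by
    intro α hα z w hgen hz hw hz1 hαz hαw hfix
    have hfixL := fun x hx => fix_zpowers (x := x) hfix hx
    set γ := (α₁ * α)⁻¹ * (α * α₁) with hγ
    have hγA : γ ∈ A := A.mul_mem (A.inv_mem (A.mul_mem hα₁ hα)) (A.mul_mem hα hα₁)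
    have hβz : (α₁ * α) z = α₁ z := by rw [MulAut.mul_apply, hfix]
    have hγz : γ z = z := by
      rw [hγ, MulAut.mul_apply, MulAut.mul_apply, hfixL _ hαz, ← hβz, MulAut.inv_apply_self]
    have hmap : (Subgroup.zpowers z).map ((α₁ * α : MulAut P) : P →* P) = Subgroup.zpowers z := by
      rw [MonoidHom.map_zpowers, MonoidHom.coe_coe, hβz]
      refine Subgroup.eq_of_le_of_card_ge (Subgroup.zpowers_le.mpr hαz) (le_of_eq ?_)
      rw [Nat.card_zpowers, Nat.card_zpowers, MulEquiv.orderOf_eq]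
    have hγw : γ w = w := by
      refine fix_of_fix_quot hP hA (hord γ hγA) ?_
      obtain ⟨b₁, hb₁⟩ := Subgroup.mem_zpowers_iff.mp hαw
      obtain ⟨a, ha, v, hv, hav⟩ := hgen (α w) (by rw [← map_pow, hw, map_one])
      obtain ⟨f, rfl⟩ := Subgroup.mem_zpowers_iff.mp hv
      have hdiff : ((α₁ * α) w)⁻¹ * (α * α₁) w ∈ Subgroup.zpowers z := by
        have e : ((α₁ * α) w)⁻¹ * (α * α₁) w = a ^ b₁ * (α₁ a)⁻¹ := by
          rw [MulAut.mul_apply, MulAut.mul_apply, ← hb₁, map_zpow, ← hav, map_mul, map_zpow, ← hb₁,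
            mul_zpow, ← zpow_mul, ← zpow_mul, mul_comm f b₁]
          generalize α₁ a = q
          generalize a ^ b₁ = r
          generalize w ^ (b₁ * f) = t
          rw [inv_mul_eq_iff_eq_mul, mul_comm r q⁻¹, mul_assoc q, mul_left_comm t,
            mul_inv_cancel_left, mul_comm]
        rw [e]
        refine Subgroup.mul_mem _ (Subgroup.zpow_mem _ ha _) (Subgroup.inv_mem _ ?_)
        obtain ⟨n, rfl⟩ := Subgroup.mem_zpowers_iff.mp ha
        rw [map_zpow]
        exact Subgroup.zpow_mem _ hαz _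
      rw [← hmap, Subgroup.mem_map] at hdiff
      obtain ⟨y, hy, hyeq⟩ := hdiff
      have : w⁻¹ * γ w = y := by
        apply (α₁ * α).injective
        rw [map_mul, map_inv, hγ, ← MulAut.mul_apply, mul_inv_cancel_left]
        exact hyeq.symm
      rw [this]
      exact fix_zpowers hγz hy
    have hγ1 : γ = 1 := eq_one_of_fix_omega hP hA (hord γ hγA) fun x hx => by
      rw [mem_omegaSub, pow_one] at hx
      obtain ⟨a, ha, b, hb, rfl⟩ := hgen x hx
      rw [map_mul, fix_zpowers hγz ha, fix_zpowers hγw hb]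
    exact (inv_mul_eq_one.mp hγ1).symm
  -- the element
  have key : ∀ k₀ ∈ K, (∃ n : ℕ, zK = k₀ ^ n) →
      (∃ n : ℕ, (c * k₀) ^ n = zC ∨ (c * k₀) ^ n = zK) → ∀ α ∈ A, α (c * k₀) = c * k₀ → α = 1 := by
    rintro k₀ hk₀ ⟨m, hm⟩ ⟨n, hn⟩ α hα hfix
    have hαn : α ((c * k₀) ^ n) = (c * k₀) ^ n := by rw [map_pow, hfix]
    have hcom : α * α₁ = α₁ * α := by
      rcases hn with hn | hn
      · exact hcomm α hα zC zK homega hzCp hzKp hzC1 (by rw [hα₁zC]; exact Subgroup.mem_zpowers _)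
          hα₁zK (by rw [← hn, hαn])
      · refine hcomm α hα zK zC (fun x hx => ?_) hzKp hzCp hzK1 hα₁zK
          (by rw [hα₁zC]; exact Subgroup.mem_zpowers _) (by rw [← hn, hαn])
        obtain ⟨a, ha, b, hb, rfl⟩ := homega x hx
        exact ⟨b, hb, a, ha, mul_comm b a⟩
    have hcomx : ∀ x, α₁ (α x) = α (α₁ x) := fun x => by
      have := DFunLike.congr_fun hcom x
      simpa using this.symm
    have hαC : ∀ x ∈ C, α x ∈ C := fun x hx => (hC' _).mpr (by rw [hcomx, (hC' x).mp hx])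
    have hαK : ∀ x ∈ K, α x ∈ K := by
      intro x hx
      let g : K → K := fun y => ⟨(y : P)⁻¹ * α₁ y, K.mul_mem (K.inv_mem y.2) (hK' _ y.2)⟩
      have hg : Function.Injective g := by
        intro y y' h
        have h' : (y : P)⁻¹ * α₁ y = (y' : P)⁻¹ * α₁ y' := congrArg Subtype.val h
        have hmem : (y : P) * (y' : P)⁻¹ ∈ C ⊓ K := by
          refine ⟨(hC' _).mpr ?_, K.mul_mem y.2 (K.inv_mem y'.2)⟩
          rw [inv_mul_eq_iff_eq_mul] at h'
          rw [map_mul, map_inv, h', mul_assoc, mul_comm ((y' : P)⁻¹) (α₁ y'), mul_inv_cancel_comm]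
        rw [hCK, Subgroup.mem_bot, mul_inv_eq_one] at hmem
        exact Subtype.ext hmem
      obtain ⟨y, hy⟩ := (Finite.injective_iff_surjective.mp hg) ⟨x, hx⟩
      rw [← show (y : P)⁻¹ * α₁ y = x from congrArg Subtype.val hy, map_mul, map_inv, ← hcomx]
      obtain ⟨a, ha, b, hb, hab⟩ := hdec (α y)
      rw [← hab, map_mul, (hC' a).mp ha, mul_inv_rev, mul_assoc, inv_mul_cancel_left]
      exact K.mul_mem (K.inv_mem hb) (hK' _ hb)
    obtain ⟨h1, h2⟩ := huniq _ (hαC c hcC) _ (hαK k₀ hk₀) c hcC k₀ hk₀ (by rw [← map_mul, hfix])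
    exact hfix2 α hα (by rw [hzC, map_pow, h1]) (by rw [hm, map_pow, h2])
  have hkill : ∀ {e : ℕ} {x : P} {n : ℕ}, orderOf x = p ^ n → n ≤ e → x ^ p ^ e = 1 := by
    intro e x n hx hn
    exact orderOf_dvd_iff_pow_eq_one.mp (hx ▸ pow_dvd_pow p hn)
  rcases lt_trichotomy s t with h | h | h
  · refine ⟨c * k, key k hkK ⟨p ^ t, hzK⟩ ⟨p ^ t, Or.inr ?_⟩⟩
    rw [mul_pow, hkill hs' h, one_mul, hzK]
  · subst h
    obtain ⟨s₀, rfl⟩ : ∃ n, s = n + 1 := Nat.exists_eq_succ_of_ne_zero fun h0 => hel ⟨by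
        rw [← hcard, hsC, htK, h0]; ring, fun x => by
        subst h0
        obtain ⟨a, ha, b, hb, rfl⟩ := hdec x
        rw [hCz] at ha; rw [hKz] at hb
        obtain ⟨i, rfl⟩ := Subgroup.mem_zpowers_iff.mp ha
        obtain ⟨j, rfl⟩ := Subgroup.mem_zpowers_iff.mp hb
        rw [mul_pow, ← zpow_natCast, ← zpow_natCast, zpow_comm c, zpow_comm k, zpow_natCast, zpow_natCast]
        have e1 : c ^ p = 1 := by simpa [hs'] using pow_orderOf_eq_one c
        have e2 : k ^ p = 1 := by simpa [ht'] using pow_orderOf_eq_one k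
        rw [e1, e2, one_zpow, one_zpow, one_mul]⟩
    refine ⟨c * k ^ p, key (k ^ p) (K.pow_mem hkK p) ⟨p ^ s₀, ?_⟩ ⟨p ^ (s₀ + 1), Or.inl ?_⟩⟩
    · rw [hzK, ← pow_mul, ← pow_succ']
    · rw [mul_pow, ← pow_mul, ← pow_succ', hkill ht' le_rfl, mul_one, hzC]
  · refine ⟨c * k, key k hkK ⟨p ^ t, hzK⟩ ⟨p ^ s, Or.inl ?_⟩⟩
    rw [mul_pow, hkill ht' h, mul_one, hzC]


end Cfsg.Agent.BC85.RankBound
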