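import Cfsg.Agent.BC85.RankBound.Weight
import Cfsg.Agent.BC85.RankBound.Coprime
import Cfsg.Agent.BC85.Star.Section
import Cfsg.Agent.BlkChar.BrauerFeitBound
import Cfsg.Agent.BlkChar.AbelianWatanabe

/-!
# Blocks with an abelian defect group of rank two or three

A major subsection `(u, b)` bounds `k(B)` by `p ^ d * l(b)`. For rank two some `u` of the defect
group has no inertial element outside `C(P)` in its centralizer, so `l(b) = 1`. For rank three we
take `u` of maximal order and bound `l(b)` inside its centralizer.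
-/

set_option autoImplicit false
set_option linter.unusedSectionVars false
set_option linter.style.longLine false

namespace Cfsg.Agent.BC85.RankBound

open BlocksCore BlocksDefect
open scoped Classical

universe u

variable {G : Type u} [Group G] [Fintype G] {p : ℕ} [Fact p.Prime] {M : Ideal AlgInt}
  {B : Set (IrrCharacter G)} {P : Subgroup G}
  {c : Set (IrrCharacter (Subgroup.centralizer (P : Set G)))}

/-- The inertial elements as automorphisms of `P`. -/
noncomputable def act (P : Subgroup G) (c : Set (IrrCharacter (Subgroup.centralizer (P : Set G)))) :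
    stabT P c →* MulAut P :=
  (Subgroup.normalizerMonoidHom P).comp
    (Subgroup.inclusion (inf_le_left : stabT P c ≤ Subgroup.normalizer (P : Set G)))

theorem act_coe (t : stabT P c) (v : P) : ((act P c t v : P) : G) = t * v * (t : G)⁻¹ := rfl

theorem act_ker : (act P c).ker = (Subgroup.centralizer (P : Set G)).subgroupOf (stabT P c) := by
  ext t
  rw [MonoidHom.mem_ker, Subgroup.mem_subgroupOf, Subgroup.mem_centralizer_iff]
  constructor
  · intro h v hv
    have h1 : (t : G) * v * (t : G)⁻¹ = v := by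
      have := act_coe (c := c) t ⟨v, hv⟩
      rw [h] at this
      exact this.symm
    exact (mul_inv_eq_iff_eq_mul.mp h1).symm
  · intro h
    ext v
    rw [act_coe]
    show (t : G) * v * (t : G)⁻¹ = v
    rw [mul_inv_eq_iff_eq_mul]
    exact (h v v.2).symm

variable (hM : IsPModular p M) (hmax : IsMaximalBrauerPair p M B P c)
  (hPD : IsDefectGroup p M B P) (hab : ∀ x ∈ P, ∀ y ∈ P, x * y = y * x)
include hM hmax hPD hab

theorem not_dvd_card_act (S : Subgroup (stabT P c)) : ¬ p ∣ Nat.card (S.map (act P c)) := fun hp => by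
  have h1 := not_dvd_index_inertia hM hmax hab
  rw [← act_ker, Subgroup.index_ker] at h1
  exact h1 (hp.trans (Subgroup.card_dvd_of_le (Subgroup.map_le_range _ _)))

theorem defect_below {Q : Subgroup G} {f : Set (IrrCharacter (Subgroup.centralizer (Q : Set G)))}
    (hle : SubpairLE p M Q f P c) :
    IsDefectGroup p M f (P.subgroupOf (Subgroup.centralizer (Q : Set G))) ∧
      blockDefect p f = blockDefect p B := by
  have := isPrime hM
  have hQP := subpairLE_le hle
  have hPC : P ≤ Subgroup.centralizer (Q : Set G) := fun u hu =>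
    Subgroup.mem_centralizer_iff.mpr fun q hq => hab q (hQP hq) u hu
  have hfc := (fullyCentralized_iff hM (isBlockFusionSystemOn_blockFusion hM hmax) hle).mp
    ⟨hQP, fun R _ => by
      rw [FusionSystem.centralizerIn, FusionSystem.centralizerIn, inf_eq_left.mpr hPC]
      exact Subgroup.card_le_of_le inf_le_left⟩
  rw [inf_eq_left.mpr hPC] at hfc
  refine ⟨hfc, Nat.pow_right_injective (Fact.out : p.Prime).two_le ?_⟩
  show p ^ blockDefect p f = p ^ blockDefect p B
  rw [← defectGroup_natCard hM (subpairLE_isBrauerPair hle hmax.1.1).2 hfc,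
    ← defectGroup_natCard hM hmax.1.2.1 hPD, Nat.card_congr (Subgroup.subgroupOfEquivOfLe hPC).toEquiv]

/-- `k(B)` against a subsection below the maximal pair. -/
theorem card_le_mul_rank_below {w : G} (hw : w ∈ P)
    {f : Set (IrrCharacter (Subgroup.centralizer ((Subgroup.zpowers w : Subgroup G) : Set G)))}
    (hle : SubpairLE p M (Subgroup.zpowers w) f P c) :
    Nat.card B ≤ Nat.card P * blockRank p f := by
  have := isPrime hM
  obtain ⟨k, hk⟩ := IsPGroup.iff_orderOf.mp hmax.1.1.1 ⟨w, hw⟩
  rw [Subgroup.orderOf_mk] at hk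
  have hC : Subgroup.zpowers w ≤
      Subgroup.centralizer ((Subgroup.zpowers w : Subgroup G) : Set G) := by
    rw [centralizer_zpowers]
    exact Subgroup.zpowers_le.mpr (Subgroup.mem_centralizer_singleton_iff.mpr rfl)
  have hp := (subpairLE_pairOf_iff hM hle B).mp hmax.1
  have hind : IsInducedBlock M (Subgroup.centralizer ((Subgroup.zpowers w : Subgroup G) : Set G)) f B :=
    isInducedBlock_of_over hM hC le_rfl hp hp.1.2 fun θ hθ => by
      show θ ∈ unitSet M (pullFun (Subgroup.centralizer ((Subgroup.zpowers w : Subgroup G) : Set G)).subtype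
        (bp ⟨Subgroup.zpowers w, f⟩))
      rw [pullFun_bp, unitSet_blockCoeff hM]
      exact hθ
  obtain ⟨-, hd⟩ := defect_below hM hmax hPD hab hle
  rw [defectGroup_natCard hM hmax.1.2.1 hPD]
  have key : ∀ (H : Subgroup G),
      Subgroup.centralizer ((Subgroup.zpowers w : Subgroup G) : Set G) = H →
      ∃ b : Set (IrrCharacter H), IsInducedBlock M H b B ∧ blockDefect p b = blockDefect p B ∧
        blockRank p b = blockRank p f := by
    rintro H rfl
    exact ⟨f, hind, hd, rfl⟩
  obtain ⟨b, hb, hbd, hbl⟩ := key _ (centralizer_zpowers w)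
  rw [← hbl]
  exact card_le_mul_rank hM hk hb hbd

/-- An element without inertial centralizer. -/
theorem card_le_of_regular {w : G} (hw : w ∈ P)
    (hreg : ∀ t ∈ stabT P c, t * w * t⁻¹ = w → t ∈ Subgroup.centralizer (P : Set G)) :
    Nat.card B ≤ Nat.card P := by
  obtain ⟨f, hle⟩ := exists_below hM hmax.1.1 (Subgroup.zpowers_le.mpr hw)
  obtain ⟨hfD, -⟩ := defect_below hM hmax hPD hab hle
  have hnil := (nilpotent_local_iff hM hmax hab hle).mpr fun g hg hgQ => hreg g hg
    (mul_inv_eq_iff_eq_mul.mpr (Subgroup.mem_centralizer_iff.mp hgQ w (Subgroup.mem_zpowers w)).symm)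
  have h := card_le_mul_rank_below hM hmax hPD hab hw hle
  rwa [(rank_one_of_abelian hM hnil hfD fun x hx y hy => Subtype.ext (hab (x : G) hx (y : G) hy)).1,
    mul_one] at h

/-- The same inside a local subgroup. -/
theorem card_local_le {Q : Subgroup G} {f : Set (IrrCharacter (Subgroup.centralizer (Q : Set G)))}
    (hle : SubpairLE p M Q f P c) {w : G} (hw : w ∈ P)
    (hreg : ∀ t ∈ stabT P c, t ∈ Subgroup.centralizer (Q : Set G) → t * w * t⁻¹ = w →
      t ∈ Subgroup.centralizer (P : Set G)) :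
    Nat.card f ≤ Nat.card P := by
  have := isPrime hM
  have he := hmax.1.1
  have hQP := subpairLE_le hle
  have hPC : P ≤ Subgroup.centralizer (Q : Set G) := fun u hu =>
    Subgroup.mem_centralizer_iff.mpr fun q hq => hab q (hQP hq) u hu
  obtain ⟨hfc, -⟩ := defect_below hM hmax hPD hab hle
  have hf := subpairLE_isBrauerPair hle he
  obtain ⟨⟨P', c'⟩, hc', hlift⟩ := exists_exactUnlift hM (⟨P, c⟩ : BrauerPairIdx G)
    (centralizer_anti hQP) hPC he.2
  obtain rfl : P' = P.subgroupOf (Subgroup.centralizer (Q : Set G)) := by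
    have h1 : P = P'.map (Subgroup.centralizer (Q : Set G)).subtype := hlift.2
    rw [h1, Subgroup.subgroupOf,
      Subgroup.comap_map_eq_self_of_injective (Subgroup.subtype_injective _)]
  obtain ⟨-, -, -, -, -, hsub⟩ := (isNormalSubpair_iff hM).mp
    (normalSubpair_of_below hM he hle (hPC.trans (BlocksCore.centralizer_le_normalizer' Q)))
  have hpair : IsBrauerPairOf p M f (P.subgroupOf (Subgroup.centralizer (Q : Set G))) c' :=
    (isBrauerPairOf_iff hM).mpr ⟨⟨isPGroup_subgroupOf he.1 _, hc'⟩, hf.2,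
      (hlift.1.subset_cset_iff fun x => bp_apply_coe Q f x).mp hsub⟩
  have h := card_le_of_regular hM (isMaximal_of_defect hM hfc hpair) hfc
    (fun x hx y hy => Subtype.ext (hab (x : G) hx (y : G) hy))
    (w := (⟨w, hPC hw⟩ : Subgroup.centralizer (Q : Set G))) hw fun t ht htw =>
      (mem_centralizer_subgroupOf hPC t).mpr
        (hreg t ((mem_stab_unlift hM hlift t).mpr ht) t.2 (congrArg Subtype.val htw))
  rwa [Nat.card_congr (Subgroup.subgroupOfEquivOfLe hPC).toEquiv] at h

/-- Few elements killed by `p`. -/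
theorem card_le_of_small (hΩ : Nat.card {v : P // v ^ p = 1} ≤ p ^ 2) (hne : Nat.card P ≠ p ^ 2) :
    Nat.card B ≤ Nat.card P := by
  letI : CommGroup P :=
    { (inferInstance : Group P) with mul_comm := fun a b => Subtype.ext (hab a a.2 b b.2) }
  obtain ⟨w, hw⟩ := exists_regular (P := P) hmax.1.1.1 ((⊤ : Subgroup (stabT P c)).map (act P c))
    (not_dvd_card_act hM hmax hPD hab ⊤) (le_trans (le_of_eq (Nat.card_congr
      (Equiv.subtypeEquivRight fun v => by rw [mem_omegaSub, pow_one]))) hΩ) (fun h => hne h.1)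
  refine card_le_of_regular hM hmax hPD hab w.2 fun t ht htw => ?_
  have h := hw _ ⟨⟨t, ht⟩, trivial, rfl⟩ (Subtype.ext htw)
  exact Subgroup.mem_subgroupOf.mp (act_ker (c := c) ▸ (show (⟨t, ht⟩ : stabT P c) ∈ (act P c).ker from h))

/-- Characters trivial on a complement of the fixed points. -/
theorem card_mul_rank_le {w : G} (hw : w ∈ P)
    {f : Set (IrrCharacter (Subgroup.centralizer ((Subgroup.zpowers w : Subgroup G) : Set G)))}
    (hle : SubpairLE p M (Subgroup.zpowers w) f P c) (K : Subgroup P) [K.Normal]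
    (hK : ∀ t ∈ stabT P c ⊓ Subgroup.centralizer ((Subgroup.zpowers w : Subgroup G) : Set G),
      ∀ v v' : P, t * (v : G) * t⁻¹ = v' → v⁻¹ * v' ∈ K) :
    K.index * blockRank p f ≤ Nat.card f := by
  have := isPrime hM
  letI : CommGroup P :=
    { (inferInstance : Group P) with mul_comm := fun a b => Subtype.ext (hab a a.2 b b.2) }
  have he := hmax.1.1
  set S := stabT P c ⊓ Subgroup.centralizer ((Subgroup.zpowers w : Subgroup G) : Set G) with hS
  let R : Subgroup G → ℕ := fun T =>
    if h : T ≤ P then blockRank p (exists_below hM he h).choose else 0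
  have hR : ∀ (T : Subgroup G) (g : Set (IrrCharacter (Subgroup.centralizer (T : Set G)))),
      SubpairLE p M T g P c → R T = blockRank p g := by
    intro T g hg
    simp only [R, dif_pos (subpairLE_le hg)]
    rw [below_unique hM he (exists_below hM he (subpairLE_le hg)).choose_spec hg]
  let g : P → ℕ := fun v => Nat.card (S ⊓ Subgroup.centralizer ({(v : G)} : Set G) : Subgroup G) *
    R (Subgroup.zpowers w ⊔ Subgroup.zpowers (v : G))
  have hloc : ∀ l : P ⧸ K →* ℂˣ, ∑ v : P, ((l (v : P ⧸ K) : ℂˣ) : ℂ) * (g v : ℂ) =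
      (Nat.card S : ℂ) * if l = 1 then (Nat.card f : ℂ) else 0 := by
    intro l
    have h := BlkChar.AbelianWatanabe.local_sum hM hmax hab R hR hle (l.comp (QuotientGroup.mk' K))
      fun t ht v v' hv => congrArg l (QuotientGroup.eq.mpr (hK t ht v v' hv))
    have hiff : l.comp (QuotientGroup.mk' K) = 1 ↔ l = 1 := by
      rw [← MonoidHom.one_comp (QuotientGroup.mk' K),
        MonoidHom.cancel_right (QuotientGroup.mk'_surjective K)]
    simp only [hiff] at h
    rw [← h]
    refine Finset.sum_congr rfl fun v _ => ?_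
    simp only [g, Nat.cast_mul, MonoidHom.comp_apply, QuotientGroup.mk'_apply]
    rfl
  have : Fintype (P ⧸ K →* ℂˣ) := by
    have : Finite (P ⧸ K →* ℂˣ) := Nat.finite_of_card_ne_zero (by
      rw [CommGroup.card_monoidHom_of_hasEnoughRootsOfUnity]; exact Nat.card_pos.ne')
    exact Fintype.ofFinite _
  have horth : ∀ x : P ⧸ K, x ≠ 1 → ∑ l : P ⧸ K →* ℂˣ, (l x : ℂ) = 0 := by
    intro x hx
    obtain ⟨l₁, hl₁⟩ := CommGroup.exists_apply_ne_one_of_hasEnoughRootsOfUnity (P ⧸ K) ℂ hx
    have h : ∑ l : P ⧸ K →* ℂˣ, (l x : ℂ) = (l₁ x : ℂ) * ∑ l : P ⧸ K →* ℂˣ, (l x : ℂ) := by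
      rw [Finset.mul_sum]
      refine (Equiv.sum_comp (Equiv.mulLeft l₁) fun l : P ⧸ K →* ℂˣ => (l x : ℂ)).symm.trans ?_
      exact Finset.sum_congr rfl fun l _ => by simp
    have h1 : ((l₁ x : ℂˣ) : ℂ) - 1 ≠ 0 := sub_ne_zero.mpr fun h1 => hl₁ (Units.ext h1)
    exact ((mul_eq_zero.mp (show (((l₁ x : ℂˣ) : ℂ) - 1) * ∑ l : P ⧸ K →* ℂˣ, (l x : ℂ) = 0 by
      rw [sub_mul, ← h, one_mul, sub_self])).resolve_left h1)
  have hsum : ((K.index * ∑ v ∈ Finset.univ.filter (fun v : P => v ∈ K), g v : ℕ) : ℂ) =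
      ((Nat.card S * Nat.card f : ℕ) : ℂ) := by
    have h1 : ∑ l : P ⧸ K →* ℂˣ, ∑ v : P, ((l (v : P ⧸ K) : ℂˣ) : ℂ) * (g v : ℂ) =
        (Nat.card S : ℂ) * (Nat.card f : ℂ) := by
      rw [Finset.sum_congr rfl fun l _ => hloc l, Finset.sum_eq_single (1 : P ⧸ K →* ℂˣ)]
      · rw [if_pos rfl]
      · intro l _ hl
        rw [if_neg hl, mul_zero]
      · simp
    rw [Nat.cast_mul, Nat.cast_mul, ← h1, Finset.sum_comm, Nat.cast_sum, Finset.mul_sum,
      Finset.sum_filter]
    refine Finset.sum_congr rfl fun v _ => ?_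
    rw [← Finset.sum_mul]
    split_ifs with hv
    · rw [(QuotientGroup.eq_one_iff v).mpr hv]
      congr 1
      simp only [map_one, Units.val_one, Finset.sum_const, Finset.card_univ, nsmul_eq_mul, mul_one]
      rw [← Nat.card_eq_fintype_card, CommGroup.card_monoidHom_of_hasEnoughRootsOfUnity,
        Subgroup.index_eq_card]
    · rw [horth _ (fun h => hv ((QuotientGroup.eq_one_iff v).mp h)), zero_mul]
  have hsum' := Nat.cast_injective hsum
  have hg1 : g 1 = Nat.card S * blockRank p f := by
    simp only [g, Subgroup.coe_one, Subgroup.zpowers_one_eq_bot, sup_bot_eq, hR _ _ hle]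
    congr 2
    rw [inf_eq_left.mpr fun t _ => Subgroup.mem_centralizer_singleton_iff.mpr (by simp)]
  have hle1 : g 1 ≤ ∑ v ∈ Finset.univ.filter (fun v : P => v ∈ K), g v :=
    Finset.single_le_sum (fun _ _ => Nat.zero_le _)
      (Finset.mem_filter.mpr ⟨Finset.mem_univ _, K.one_mem⟩)
  refine Nat.le_of_mul_le_mul_left ?_ (Nat.card_pos (α := S))
  rw [← hsum', mul_left_comm, ← hg1]
  exact Nat.mul_le_mul_left _ hle1

end Cfsg.Agent.BC85.RankBound

namespace Cfsg.Agent.BC85.RankBound

open BlocksCore BlocksDefect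
open scoped Classical

universe u

variable {p : ℕ} [Fact p.Prime] {M : Ideal AlgInt}

/-- A central element of order `p ^ s` in a block of defect `s + e`, `e ≤ 2`. -/
theorem rank_le_of_central (hM : IsPModular p M) : ∀ (s : ℕ) (H : Type u) [Group H] [Finite H]
    (b : Set (IrrCharacter H)), IsPBlock M b → ∀ z : H, z ∈ Subgroup.center H → orderOf z = p ^ s →
      ∀ e, e ≤ 2 → blockDefect p b = s + e → blockRank p b ≤ p ^ e := by
  intro s
  induction s with
  | zero =>
    intro H _ _ b hb z _ _ e he hd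
    exact (BlkChar.BrauerFeit.blockRank_le_card b).trans
      ((BlkChar.BrauerFeit.natCard_le hM e H b hb (by rw [hd, zero_add])).1 he)
  | succ s ih =>
    intro H _ _ b hb z hz hzo e he hd
    have hp : p.Prime := Fact.out
    set Q := Subgroup.zpowers (z ^ p ^ s) with hQ
    have hQc : Q ≤ Subgroup.center H := Subgroup.zpowers_le.mpr (Subgroup.pow_mem _ hz _)
    have : Q.Normal := ⟨fun a ha g => by
      rw [Subgroup.mem_center_iff.mp (hQc ha) g, mul_inv_cancel_right]
      exact ha⟩
    have hzp : orderOf (z ^ p ^ s) = p := by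
      rw [orderOf_pow' z (pow_ne_zero _ hp.ne_zero), hzo,
        Nat.gcd_eq_right (pow_dvd_pow p (Nat.le_succ s)), Nat.pow_div (Nat.le_succ s) hp.pos]
      simp
    obtain ⟨bb, hbb, hbd, hr, -⟩ := BlkChar.BrauerFeit.exists_dominated hM (Q := Q)
      (by rw [hQ, Nat.card_zpowers, hzp]) hQc hb
    refine hr.trans (ih (H ⧸ Q) bb hbb (QuotientGroup.mk z) ?_ ?_ e he (by omega))
    · refine Subgroup.mem_center_iff.mpr fun g => ?_
      obtain ⟨g, rfl⟩ := QuotientGroup.mk'_surjective Q g
      rw [QuotientGroup.mk'_apply, ← QuotientGroup.mk_mul, ← QuotientGroup.mk_mul,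
        Subgroup.mem_center_iff.mp hz g]
    · rcases Nat.eq_zero_or_pos s with rfl | hs
      · rw [pow_zero, orderOf_eq_one_iff, QuotientGroup.eq_one_iff, hQ, pow_zero, pow_one]
        exact Subgroup.mem_zpowers z
      obtain ⟨t, rfl⟩ : ∃ t, s = t + 1 := Nat.exists_eq_succ_of_ne_zero hs.ne'
      refine orderOf_eq_prime_pow (fun h => ?_) ?_
      · rw [← QuotientGroup.mk_pow, QuotientGroup.eq_one_iff] at h
        obtain ⟨n, hn⟩ := Subgroup.mem_zpowers_iff.mp h
        have h1 : (z ^ p ^ t) ^ p = 1 := by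
          rw [← hn, ← zpow_natCast (((z ^ p ^ (t + 1)) ^ n)) p, ← zpow_mul, mul_comm, zpow_mul,
            zpow_natCast, show (z ^ p ^ (t + 1)) ^ p = 1 from orderOf_dvd_iff_pow_eq_one.mp hzp.dvd,
            one_zpow]
        rw [← pow_mul, ← pow_succ] at h1
        have := orderOf_dvd_of_pow_eq_one h1
        rw [hzo, Nat.pow_dvd_pow_iff_le_right hp.one_lt] at this
        omega
      · rw [← QuotientGroup.mk_pow, QuotientGroup.eq_one_iff]
        exact Subgroup.mem_zpowers _

variable {G : Type u} [Group G] [Fintype G]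
  {B : Set (IrrCharacter G)} {P : Subgroup G}
  {c : Set (IrrCharacter (Subgroup.centralizer (P : Set G)))}

/-- The bound for rank three. -/
theorem card_cube_le (hM : IsPModular p M) (hmax : IsMaximalBrauerPair p M B P c)
    (hPD : IsDefectGroup p M B P) (hab : ∀ x ∈ P, ∀ y ∈ P, x * y = y * x)
    (hΩ : Nat.card {v : P // v ^ p = 1} ≤ p ^ 3) {d : ℕ} (hd : Nat.card P = p ^ d) :
    Nat.card B ^ 3 ≤ p ^ (5 * d) := by
  have := isPrime hM
  have hp : p.Prime := Fact.out
  letI : CommGroup P :=
    { (inferInstance : Group P) with mul_comm := fun a b => Subtype.ext (hab a a.2 b b.2) }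
  have hP : IsPGroup p P := hmax.1.1.1
  have hΩ' : Nat.card (omegaSub P p 1) ≤ p ^ 3 := le_trans (le_of_eq (Nat.card_congr
    (Equiv.subtypeEquivRight fun v => by rw [mem_omegaSub, pow_one]))) hΩ
  obtain ⟨u₀, s, hus, hexp, hPle⟩ := exists_orderOf_bound hP hΩ'
  rw [hd, Nat.pow_le_pow_iff_right hp.one_lt] at hPle
  obtain ⟨f, hle⟩ := exists_below hM hmax.1.1 (Subgroup.zpowers_le.mpr u₀.2)
  have hmain := card_le_mul_rank_below hM hmax hPD hab u₀.2 hle
  rw [hd] at hmain
  suffices hl : blockRank p f ^ 3 ≤ p ^ (2 * d) by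
    refine (Nat.pow_le_pow_left hmain 3).trans ?_
    rw [mul_pow, ← pow_mul, show 5 * d = d * 3 + 2 * d by omega, pow_add]
    exact Nat.mul_le_mul_left _ hl
  rcases Nat.eq_zero_or_pos s with rfl | hs
  · -- the trivial group
    obtain rfl : d = 0 := by omega
    rw [pow_zero] at hd
    have h := card_local_le hM hmax hPD hab hle (w := 1) P.one_mem fun t _ _ _ =>
      Subgroup.mem_centralizer_iff.mpr fun q hq => by
        rw [(Subgroup.card_eq_one.mp hd)] at hq
        rw [Subgroup.mem_bot.mp hq, one_mul, mul_one]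
    rw [hd] at h
    exact Nat.pow_le_pow_left ((BlkChar.BrauerFeit.blockRank_le_card f).trans h) 3 |>.trans (by simp)
  set A := ((Subgroup.centralizer ((Subgroup.zpowers (u₀ : G) : Subgroup G) : Set G)).subgroupOf (stabT P c)).map (act P c) with hA
  have hAp : ¬ p ∣ Nat.card A := not_dvd_card_act hM hmax hPD hab _
  obtain ⟨C, K, hCK, hcard, hC, hK, hdec⟩ := exists_decomp hP A hAp
  have hu₀C : u₀ ∈ C := (hC _).mpr (by
    rintro _ ⟨t, ht, rfl⟩
    refine Subtype.ext ((act_coe t u₀).trans (mul_inv_eq_iff_eq_mul.mpr ?_))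
    exact (Subgroup.mem_centralizer_iff.mp ht _ (Subgroup.mem_zpowers _)).symm)
  have hu1 : u₀ ≠ 1 := fun h => by
    rw [h, orderOf_one] at hus
    exact (Nat.one_lt_pow hs.ne' hp.one_lt).ne hus
  have hCs : p ^ s ≤ Nat.card C := by
    rw [← hus, ← Nat.card_zpowers]
    exact Subgroup.card_le_of_le (Subgroup.zpowers_le.mpr hu₀C)
  have hCnt : Nontrivial C := C.nontrivial_iff_exists_ne_one.mpr ⟨u₀, hu₀C, hu1⟩
  have hC1 := p_le_natCard_omegaSub (hP.to_subgroup C) hCnt
  have hprod := (natCard_omega_mul_le (p := p) hCK).trans hΩ'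
  have hKi : K.index = Nat.card C := by
    have h := K.index_mul_card
    rw [← hcard] at h
    exact Nat.eq_of_mul_eq_mul_right Nat.card_pos h
  have hlk : Nat.card C * blockRank p f ≤ Nat.card f := by
    rw [← hKi]
    refine card_mul_rank_le hM hmax hPD hab u₀.2 hle K fun t ht v v' hv => ?_
    have hα : act P c ⟨t, ht.1⟩ ∈ A := ⟨⟨t, ht.1⟩, ht.2, rfl⟩
    obtain rfl : act P c ⟨t, ht.1⟩ v = v' := Subtype.ext ((act_coe _ _).trans hv)
    obtain ⟨a, ha, b, hb, rfl⟩ := hdec v
    rw [map_mul, (hC a).mp ha _ hα, mul_inv_rev, mul_assoc, inv_mul_cancel_left]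
    exact K.mul_mem (K.inv_mem hb) (hK _ hα b hb)
  by_cases hel : Nat.card K = p ^ 2 ∧ ∀ x : K, x ^ p = 1
  · -- `C` is generated by the element of maximal order
    have hK2 : Nat.card (omegaSub K p 1) = p ^ 2 := by
      rw [← hel.1]
      refine Nat.card_congr (Equiv.subtypeUnivEquiv fun x => ?_)
      rw [mem_omegaSub, pow_one]
      exact hel.2 x
    rw [hK2, pow_succ' p 2] at hprod
    have hC1' : Nat.card (omegaSub C p 1) ≤ p :=
      Nat.le_of_mul_le_mul_right hprod (pow_pos hp.pos 2)
    obtain ⟨c₀, t, hct, htC⟩ := exists_orderOf_eq_card (hP.to_subgroup C) hC1'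
    have hts : t = s := by
      refine le_antisymm ((Nat.pow_le_pow_iff_right hp.one_lt).mp ?_)
        ((Nat.pow_le_pow_iff_right hp.one_lt).mp (htC ▸ hCs))
      rw [← hct]
      exact Nat.le_of_dvd (pow_pos hp.pos _)
        (orderOf_dvd_of_pow_eq_one (Subtype.ext (hexp c₀)))
    rw [htC, hel.1, hts, ← pow_add, hd] at hcard
    have hd2 : s + 2 = d := Nat.pow_right_injective hp.two_le hcard
    have hC' : P ≤ (Subgroup.centralizer ((Subgroup.zpowers (u₀ : G) : Subgroup G) : Set G)) := fun v hv => Subgroup.mem_centralizer_iff.mpr fun q hq =>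
      hab q ((Subgroup.zpowers_le.mpr u₀.2) hq) v hv
    have hdf := (defect_below hM hmax hPD hab hle).2
    rw [show blockDefect p B = d from Nat.pow_right_injective hp.two_le
      ((defectGroup_natCard hM hmax.1.2.1 hPD).symm.trans hd)] at hdf
    have hz : (⟨u₀, hC' u₀.2⟩ : (Subgroup.centralizer ((Subgroup.zpowers (u₀ : G) : Subgroup G) : Set G))) ∈ Subgroup.center (Subgroup.centralizer ((Subgroup.zpowers (u₀ : G) : Subgroup G) : Set G)) := Subgroup.mem_center_iff.mpr fun g =>
      Subtype.ext (Subgroup.mem_centralizer_iff.mp g.2 _ (Subgroup.mem_zpowers _)).symm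
    have hl := rank_le_of_central hM s (Subgroup.centralizer ((Subgroup.zpowers (u₀ : G) : Subgroup G) : Set G)) f (subpairLE_isBrauerPair hle hmax.1.1).2 _ hz
      (by rw [Subgroup.orderOf_mk, Subgroup.orderOf_coe, hus]) 2 le_rfl (by omega)
    refine (Nat.pow_le_pow_left hl 3).trans ?_
    rw [← pow_mul]
    exact Nat.pow_le_pow_right hp.pos (by omega)
  · -- a regular orbit on `K`
    let ρ : A →* MulAut K :=
      { toFun := fun α =>
          { toFun := fun x => ⟨(α : MulAut P) x, hK _ α.2 _ x.2⟩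
            invFun := fun x => ⟨(α : MulAut P)⁻¹ x, hK _ (A.inv_mem α.2) _ x.2⟩
            left_inv := fun x => Subtype.ext ((α : MulAut P).symm_apply_apply _)
            right_inv := fun x => Subtype.ext ((α : MulAut P).apply_symm_apply _)
            map_mul' := fun x y => Subtype.ext (map_mul (α : MulAut P) _ _) }
        map_one' := rfl
        map_mul' := fun α β => rfl }
    have hρp : ¬ p ∣ Nat.card ρ.range := fun h => hAp (h.trans (Subgroup.card_range_dvd ρ))
    have hK1 : Nat.card (omegaSub K p 1) ≤ p ^ 2 := by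
      refine Nat.le_of_mul_le_mul_left ((Nat.mul_le_mul_right _ hC1).trans ?_) hp.pos
      rw [← pow_succ']
      exact hprod
    obtain ⟨w, hw⟩ := exists_regular (hP.to_subgroup K) ρ.range hρp hK1 hel
    have hf := card_local_le hM hmax hPD hab hle (w := ((w : P) : G)) (w : P).2 fun t ht htC htw => by
      have hα : act P c ⟨t, ht⟩ ∈ A := ⟨⟨t, ht⟩, htC, rfl⟩
      have h1 := hw (ρ ⟨_, hα⟩) ⟨_, rfl⟩ (Subtype.ext (Subtype.ext htw))
      have h2 : act P c ⟨t, ht⟩ = 1 := by
        refine MulEquiv.ext fun x => ?_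
        obtain ⟨a, ha, b, hb, rfl⟩ := hdec x
        rw [map_mul, (hC a).mp ha _ hα,
          show act P c ⟨t, ht⟩ b = b from congrArg Subtype.val (DFunLike.congr_fun h1 ⟨b, hb⟩),
          MulAut.one_apply]
      exact Subgroup.mem_subgroupOf.mp
        (act_ker (c := c) ▸ (show (⟨t, ht⟩ : stabT P c) ∈ (act P c).ker from h2))
    rw [hd] at hf
    have h3 : p ^ s * blockRank p f ≤ p ^ d := (Nat.mul_le_mul_right _ hCs).trans (hlk.trans hf)
    have h4 := Nat.pow_le_pow_left h3 3
    rw [mul_pow, ← pow_mul, ← pow_mul, show d * 3 = d + 2 * d by omega, pow_add] at h4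
    refine Nat.le_of_mul_le_mul_left ((Nat.mul_le_mul_right _ ?_).trans h4) (pow_pos hp.pos d)
    exact Nat.pow_le_pow_right hp.pos hPle

end Cfsg.Agent.BC85.RankBound


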