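import Cfsg.Agent.BC84.WeightBound

/-!
# Members of a block against the rank of a major subsection

Each member of a block has a nonzero contribution at a major subsection against a member of height
zero, so its weight in the form of the subsection is at least the minimum of the form.
-/

set_option autoImplicit false
set_option linter.unusedSectionVars false

namespace Cfsg.Agent.BC85.RankBound

open BlocksCore BlocksDefect BC84 BC84.RankTwo
open scoped ComplexConjugate

variable {G : Type*} [Group G] [Finite G] {p : ℕ} [Fact p.Prime] {M : Ideal AlgInt} {u : G} {k : ℕ}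

/-- A lower bound for the form of a major subsection bounds the number of members. -/
theorem card_bound (hM : IsPModular p M) (hu : orderOf u = p ^ k)
    {B : Set (IrrCharacter G)} {b : Set (IrrCharacter (Subgroup.centralizer ({u} : Set G)))}
    (hb : IsInducedBlock M (Subgroup.centralizer ({u} : Set G)) b B)
    (hd : blockDefect p b = blockDefect p B) [Fintype b] (μ : ℕ)
    {m : b → b → ℤ}
    (hm : ∀ η η' : b, (m η η' : ℂ) = (p : ℂ) ^ blockDefect p b *
      BC85.prj p (η : IrrCharacter (Subgroup.centralizer ({u} : Set G))) η')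
    (hμ : ∀ z : b → ℤ, form m z z ≠ 0 → (μ : ℤ) ≤ form m z z) :
    μ * Nat.card B ≤
      p ^ blockDefect p b * blockRank p b := by
  classical
  have := isPrime hM
  have hp : p.Prime := hM.1
  have := Fintype.ofFinite G
  have := Fintype.ofFinite (Subgroup.centralizer ({u} : Set G))
  have := finite_irr (G := Subgroup.centralizer ({u} : Set G))
  have := finite_irr (G := G)
  have := Fintype.ofFinite B
  obtain ⟨m', hm', hsym', hidem', -, -, -⟩ := BC85.exists_matrix hM hb.1
  have hmm : m' = m := funext fun η => funext fun η' => Int.cast_injective (α := ℂ) (by rw [hm', hm])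
  rw [hmm] at hsym' hidem'
  have hsym := hsym'
  have hidem := hidem'
  set D : ℤ := (p : ℤ) ^ blockDefect p b with hDdef
  have hD : 0 < D := pow_pos (by exact_mod_cast hp.pos) _
  obtain ⟨hqnn, hqker⟩ := form_idem_facts m D hD hsym hidem
  choose n hn₀ hn using fun χ : B => exists_mult hM (χ : IrrCharacter G) (u := u)
  -- the exponents
  have hpk : 0 < p ^ k := pow_pos hp.pos _
  set P := p ^ (k + 1) with hP
  have hP0 : P ≠ 0 := pow_ne_zero _ hp.ne_zero
  set ζ : ℂ := Complex.exp (2 * Real.pi * Complex.I / (P : ℕ)) with hζdef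
  have hζ : IsPrimitiveRoot ζ P := Complex.isPrimitiveRoot_exp _ hP0
  have hJ : ∀ η : b, ∃ rt : Fin (p ^ k) × Fin p,
      cval (η : IrrCharacter (Subgroup.centralizer ({u} : Set G))) (cu u) = ζ ^ ((rt.1 : ℕ) + p ^ k * rt.2) := by
    intro η
    have h1 : cval (η : IrrCharacter (Subgroup.centralizer ({u} : Set G))) (cu u) ^ P = 1 := by
      rw [hP, pow_succ, pow_mul, cval_pow_card hM hu hb, one_pow]
    have : NeZero P := ⟨hP0⟩
    obtain ⟨i, hi, hi'⟩ := hζ.eq_pow_of_pow_eq_one h1
    refine ⟨⟨⟨i % p ^ k, Nat.mod_lt _ hpk⟩, ⟨i / p ^ k, ?_⟩⟩, ?_⟩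
    · rw [Nat.div_lt_iff_lt_mul hpk]; rw [hP, pow_succ, mul_comm] at hi; exact hi
    · rw [Nat.mod_add_div]; exact hi'.symm
  choose J hJ using hJ
  let pw : Fin (p ^ k) × Fin p → ℂ := fun a => ζ ^ ((a.1 : ℕ) + p ^ k * a.2)
  have hpwlt : ∀ a : Fin (p ^ k) × Fin p, (a.1 : ℕ) + p ^ k * a.2 < P := by
    intro a
    have h1 := a.1.2
    have h2 : p ^ k * ((a.2 : ℕ) + 1) ≤ p ^ k * p := Nat.mul_le_mul_left _ a.2.2
    rw [hP, pow_succ]; rw [mul_add, mul_one] at h2; omega
  let Z : B → Fin (p ^ k) → Fin p → (b → ℤ) := fun χ r t η =>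
    if J η = (r, t) then (n χ (η : IrrCharacter (Subgroup.centralizer ({u} : Set G))) : ℤ) else 0
  let V : (b → b → ℤ) → B → B → ℂ := fun β χ ψ => ∑ η : b, ∑ η' : b,
    ((n χ (η : IrrCharacter (Subgroup.centralizer ({u} : Set G))) : ℂ) * pw (J η)) *
      conj ((n ψ (η' : IrrCharacter (Subgroup.centralizer ({u} : Set G))) : ℂ) * pw (J η')) * (β η η' : ℂ)
  have hV : ∀ β χ ψ, V β χ ψ = ∑ a : Fin (p ^ k) × Fin p, ∑ a' : Fin (p ^ k) × Fin p,
      (form β (Z χ a.1 a.2) (Z ψ a'.1 a'.2) : ℂ) * (pw a * conj (pw a')) := by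
    intro β χ ψ
    simp only [form_apply, Z, Int.cast_sum, Finset.sum_mul, Prod.mk.eta]
    rw [Finset.sum_congr rfl fun a _ => Finset.sum_comm, Finset.sum_comm]
    refine Finset.sum_congr rfl fun η _ => ?_
    rw [Finset.sum_congr rfl fun a _ => Finset.sum_comm, Finset.sum_comm]
    refine Finset.sum_congr rfl fun η' _ => ?_
    rw [Finset.sum_eq_single (J η), Finset.sum_eq_single (J η')]
    · simp [map_mul]; ring
    · intro a' _ ha'; rw [if_neg (Ne.symm ha')]; simp
    · simp
    · intro a _ ha; exact Finset.sum_eq_zero fun a' _ => by rw [if_neg (Ne.symm ha)]; simp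
    · simp
  have hN : ∀ χ ψ : B, V m χ ψ = (p : ℂ) ^ blockDefect p b *
      contr p b ((χ : IrrCharacter G) : G → ℂ) ((ψ : IrrCharacter G) : G → ℂ) := by
    intro χ ψ
    rw [contr_eq_sum hM _ _ (hn χ) (hn ψ), Finset.mul_sum]
    refine Finset.sum_congr rfl fun η _ => ?_
    rw [Finset.mul_sum]
    refine Finset.sum_congr rfl fun η' _ => ?_
    rw [hm, hJ, hJ]
    ring
  -- totals
  have htot : ∀ (β : b → b → ℤ) (T : ℤ), ∑ χ : B, V β χ χ = (T : ℂ) →
      ∑ χ : B, BC84.RootSums.weight (form β) (Z χ) = T * ((p : ℤ) - 1) := by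
    intro β T hT
    have hav := BC84.RootSums.average hp hζ (ι := B × (Fin (p ^ k) × Fin p) × (Fin (p ^ k) × Fin p))
      (fun a => form β (Z a.1 a.2.1.1 a.2.1.2) (Z a.1 a.2.2.1 a.2.2.2))
      (fun a => ((a.2.1.1 : ℕ) + p ^ k * a.2.1.2) + (P - ((a.2.2.1 : ℕ) + p ^ k * a.2.2.2))) T (by
        rw [← hT, Fintype.sum_prod_type]
        refine Finset.sum_congr rfl fun χ _ => ?_
        rw [hV, Fintype.sum_prod_type]
        refine Finset.sum_congr rfl fun a _ => Finset.sum_congr rfl fun a' _ => ?_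
        congr 1
        rw [pow_add]
        congr 1
        have hinv : ∀ i, i ≤ P → ζ ^ (P - i) = conj (ζ ^ i) := by
          intro i hi
          refine mul_left_cancel₀ (pow_ne_zero i (hζ.ne_zero hP0)) ?_
          rw [← pow_add, Nat.add_sub_cancel' hi, hζ.pow_eq_one, Complex.mul_conj, Complex.normSq_eq_norm_sq, norm_pow,
            Complex.norm_eq_one_of_pow_eq_one hζ.pow_eq_one hP0, one_pow, one_pow, Complex.ofReal_one]
        exact hinv _ (hpwlt a').le)
    rw [← hav, Fintype.sum_prod_type]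
    refine Finset.sum_congr rfl fun χ _ => ?_
    have hdiv : ∀ a a' : Fin (p ^ k) × Fin p,
        (P ∣ ((a.1 : ℕ) + p ^ k * a.2) + (P - ((a'.1 : ℕ) + p ^ k * a'.2)) ↔ a = a') ∧
        (p ^ k ∣ ((a.1 : ℕ) + p ^ k * a.2) + (P - ((a'.1 : ℕ) + p ^ k * a'.2)) ↔ a.1 = a'.1) := by
      intro a a'
      have h1 := hpwlt a
      have h2 := hpwlt a'
      constructor
      · constructor
        · rintro ⟨c, hc⟩
          have hc1 : c = 1 := by
            rcases c with _ | _ | c
            · omega
            · rfl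
            · exfalso
              have : 2 * P ≤ P * (c + 1 + 1) := by rw [mul_comm]; exact Nat.mul_le_mul_left _ (by omega)
              omega
          rw [hc1, mul_one] at hc
          have e : (a.1 : ℕ) + p ^ k * a.2 = (a'.1 : ℕ) + p ^ k * a'.2 := by omega
          have e1 : (a.1 : ℕ) = a'.1 := by
            have := congrArg (· % p ^ k) e
            simpa [Nat.add_mul_mod_self_left, Nat.mod_eq_of_lt a.1.2, Nat.mod_eq_of_lt a'.1.2] using this
          refine Prod.ext (Fin.ext e1) (Fin.ext ?_)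
          exact Nat.eq_of_mul_eq_mul_left hpk (by omega)
        · rintro rfl; rw [Nat.add_sub_cancel' h1.le]
      · have hPm : ((P : ℕ) : ZMod (p ^ k)) = 0 := by
          rw [ZMod.natCast_eq_zero_iff, hP, pow_succ]; exact dvd_mul_right _ _
        rw [← ZMod.natCast_eq_zero_iff, Nat.cast_add, Nat.cast_sub h2.le, hPm]
        simp only [Nat.cast_add, Nat.cast_mul, ZMod.natCast_self, zero_mul, add_zero, zero_sub, ← sub_eq_add_neg,
          sub_eq_zero]
        constructor
        · intro e
          rw [ZMod.natCast_eq_natCast_iff', Nat.mod_eq_of_lt a.1.2, Nat.mod_eq_of_lt a'.1.2] at e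
          exact Fin.ext e
        · rintro e; rw [e]
    simp only [← hP, Fintype.sum_prod_type, (hdiv _ _).1, (hdiv _ _).2, Prod.mk.injEq, BC84.RootSums.weight]
    refine Finset.sum_congr rfl fun r _ => ?_
    have e : ∀ t : Fin p, ∑ r', ∑ t', form β (Z χ r t) (Z χ r' t') *
        ((if r = r' ∧ t = t' then (p : ℤ) else 0) - if r = r' then 1 else 0) =
        (p : ℤ) * form β (Z χ r t) (Z χ r t) - ∑ t', form β (Z χ r t) (Z χ r t') := by
      intro t
      rw [Finset.sum_eq_single r]
      · simp only [true_and, if_true, mul_sub, Finset.sum_sub_distrib, mul_one, mul_ite, mul_zero,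
          Finset.sum_ite_eq, Finset.mem_univ]
        ring
      · intro r' _ hr'
        exact Finset.sum_eq_zero fun t' _ => by simp [Ne.symm hr']
      · simp
    rw [Finset.sum_congr rfl fun t _ => e t, Finset.sum_sub_distrib, ← Finset.mul_sum]
    simp only [map_sum, AddMonoidHom.finsetSum_apply]
    rw [Finset.sum_comm (f := fun t t' => form β (Z χ r t) (Z χ r t'))]
  -- vanishing weights
  have hzero : ∀ β : b → b → ℤ, (∀ i j, β i j = β j i) → (∀ z, 0 ≤ form β z z) →
      (∀ z, form β z z = 0 → ∀ y, form β z y = 0) → ∀ χ, BC84.RootSums.weight (form β) (Z χ) = 0 →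
      ∀ ψ, V β χ ψ = 0 := by
    intro β hs hnn hker χ hw ψ
    rw [hV, Finset.sum_comm]
    refine Finset.sum_eq_zero fun a' _ => ?_
    rw [Fintype.sum_prod_type]
    refine Finset.sum_eq_zero fun r _ => ?_
    let t0 : Fin p := ⟨0, hp.pos⟩
    have hc : ∀ t, form β (Z χ r t) (Z ψ a'.1 a'.2) = form β (Z χ r t0) (Z ψ a'.1 a'.2) := by
      intro t
      have h1 := hker _ (BC84.RootSums.eq_zero_of_weight (form β) (form_symm β hs) hnn hw r t t0) (Z ψ a'.1 a'.2)
      rw [map_sub, AddMonoidHom.sub_apply, sub_eq_zero] at h1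
      exact h1
    simp only [hc, ← Finset.mul_sum, ← Finset.sum_mul]
    refine mul_eq_zero_of_right _ (mul_eq_zero_of_left ?_ _)
    simp only [pw, pow_add, ← Finset.mul_sum]
    refine mul_eq_zero_of_right _ ?_
    have hω : IsPrimitiveRoot (ζ ^ p ^ k) p := hζ.pow (Nat.pos_of_ne_zero hP0) (by rw [hP, pow_succ])
    rw [Finset.sum_congr rfl (g := fun t : Fin p => (ζ ^ p ^ k) ^ (t : ℕ)) (fun t _ => pow_mul _ _ _),
      Fin.sum_univ_eq_sum_range (fun i => (ζ ^ p ^ k) ^ i), hω.geom_sum_eq_zero hp.one_lt]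
  have hp2 : (2 : ℤ) ≤ p := by exact_mod_cast hp.two_le
  have hqs := form_symm m hsym
  have htotal : ∑ χ : B, BC84.RootSums.weight (form m) (Z χ) = D * (blockRank p b : ℤ) * ((p : ℤ) - 1) := by
    refine htot m _ ?_
    simp only [hN]
    rw [← Finset.mul_sum, sum_contr_self hM hu hb]
    simp [hDdef]
  obtain ⟨ψ₀, hψ₀, hψ00⟩ := exists_height_zero hM hb.2.1
  have h1 : ∀ χ ∈ (Finset.univ : Finset B), ((p : ℤ) - 1) * μ ≤ BC84.RootSums.weight (form m) (Z χ) := fun χ _ =>
    BC84.RootSums.le_weight (form m) hqs hqnn hqker hμ (Nat.cast_nonneg μ) fun h0 => by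
      refine (contr_val hM hu hb hd χ.2 hψ₀ hψ00).1 ?_
      exact (hN χ ⟨ψ₀, hψ₀⟩).symm.trans (hzero m hsym hqnn hqker χ h0 ⟨ψ₀, hψ₀⟩)
  have h2 := Finset.card_nsmul_le_sum Finset.univ (fun χ => BC84.RootSums.weight (form m) (Z χ)) _ h1
  rw [nsmul_eq_mul, Finset.card_univ, ← Nat.card_eq_fintype_card] at h2
  have h3 := h2.trans htotal.le
  rw [← Nat.cast_le (α := ℤ)]
  push_cast
  rw [← hDdef]
  exact le_of_mul_le_mul_left (by linarith) (show (0 : ℤ) < (p : ℤ) - 1 by linarith)


/-- A block has at most `p ^ d` times the rank of a major subsection many members. -/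
theorem card_le_mul_rank (hM : IsPModular p M) (hu : orderOf u = p ^ k)
    {B : Set (IrrCharacter G)} {b : Set (IrrCharacter (Subgroup.centralizer ({u} : Set G)))}
    (hb : IsInducedBlock M (Subgroup.centralizer ({u} : Set G)) b B)
    (hd : blockDefect p b = blockDefect p B) : Nat.card B ≤ p ^ blockDefect p B * blockRank p b := by
  classical
  have := Fintype.ofFinite (Subgroup.centralizer ({u} : Set G))
  have := finite_irr (G := Subgroup.centralizer ({u} : Set G))
  have := Fintype.ofFinite b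
  obtain ⟨m, hm, hsym, hidem, -⟩ := BC85.exists_matrix hM hb.1
  have h := card_bound hM hu hb hd 1 hm fun z hz => by
    have h0 := (form_idem_facts m _ (pow_pos (by exact_mod_cast hM.1.pos) (blockDefect p b)) hsym hidem).1 z
    push_cast
    omega
  rwa [one_mul, hd] at h

end Cfsg.Agent.BC85.RankBound
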